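import Groth.Agent.SchDense.Sch
import Groth.Agent.DerPerf.Local
import Groth.Agent.Devissage.Piece
import Groth.Prelude.Def_CInt

/-!
# Fibrewise schematically dense opens are universally schematically dense
-/

set_option autoImplicit false
set_option backward.isDefEq.respectTransparency false
set_option linter.style.haveILetI false

universe u

open CategoryTheory CategoryTheory.Limits AlgebraicGeometry TopologicalSpace Opposite

namespace Groth.Agent.SchDense

open Groth.Agent.QC

theorem denseFor_of_iso {X : Scheme.{u}} {F G : X.Modules} (e : F ≅ G) {U : X.Opens} (h : DenseFor F U) :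
    DenseFor G U := by
  intro V
  change Function.Injective (res G (inf_le_left : V ⊓ U ≤ V))
  refine (injective_iff_map_eq_zero _).2 fun t ht => ?_
  have h1 : res F (inf_le_left : V ⊓ U ≤ V) (e.inv.app V t) = 0 := by
    rw [← SepFam.app_res, ht, map_zero]
  have h2 : e.inv.app V t = 0 := h V (h1.trans (map_zero _).symm)
  have h3 := congrArg (e.hom.app V) h2
  rw [map_zero] at h3
  refine Eq.trans ?_ h3
  exact (congr($(congr($(e.inv_hom_id).app V)) t)).symm

/-- Schematic density is density for the structure module. -/
theorem denseFor_unit_iff {X : Scheme.{u}} (U : X.Opens) :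
    DenseFor (Coh.structureModule X) U ↔ CInt.IsSchematicallyDense U := Iff.rfl

theorem isFP_unit (X : Scheme.{u}) : CohB1.IsFP (Coh.structureModule X) := by
  haveI : (Coh.structureModule X).IsQuasicoherent := isQCoh_unit X
  refine isFP_iff_exists_hasFinPres.mpr fun x => ?_
  obtain ⟨V, hV, hx, -⟩ := exists_isAffineOpen_mem_and_subset (X := X) (x := x) (U := ⊤) trivial
  haveI : Module.FinitePresentation Γ(X, V) Γ(Coh.structureModule X, V) :=
    inferInstanceAs (Module.FinitePresentation Γ(X, V) Γ(X, V))
  exact ⟨V, hx, hasFinPres_of_finitePresentation hV⟩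

theorem isFlatOver_unit {X S : Scheme.{u}} (f : X ⟶ S) [Flat f] : FlatMod.IsFlatOver f (Coh.structureModule X) := by
  intro x
  obtain ⟨V, hV, hxV, -⟩ := exists_isAffineOpen_mem_and_subset (X := S) (x := f x) (U := ⊤) trivial
  obtain ⟨U, hU, hxU, hUV⟩ := exists_isAffineOpen_mem_and_subset (X := X) (x := x) (U := f ⁻¹ᵁ V) hxV
  refine (FlatModB.flat_sections_iff f (Coh.structureModule X) (isQCoh_unit X) hU hV hUV).1 ?_ x hxU
  letI : Algebra Γ(S, V) Γ(X, U) := (f.appLE V U hUV).hom.toAlgebra
  have h : Module.Flat Γ(S, V) Γ(X, U) := RingHom.flat_algebraMap_iff.1 (Flat.flat_appLE f hV hU (e := hUV))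
  exact h

end Groth.Agent.SchDense
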