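import Groth.Agent.SchDense.Alg
import Groth.Agent.SepFam.Mod
import Groth.Agent.SepFam.Residue
import Groth.Agent.QC.Coherent
import Groth.Agent.LocFree.Props

/-!
# Fibrewise dense opens are universally dense
-/

set_option autoImplicit false
set_option backward.isDefEq.respectTransparency false
set_option linter.style.haveILetI false

universe u

open CategoryTheory CategoryTheory.Limits AlgebraicGeometry TopologicalSpace Opposite TensorProduct

namespace Groth.Agent.SchDense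

open Groth.Agent.QC

/-- Restriction of sections of `F` to `U` is injective over all opens. -/
def DenseFor {X : Scheme.{u}} (F : X.Modules) (U : X.Opens) : Prop :=
  ∀ V : X.Opens, Function.Injective (F.presheaf.map (homOfLE (inf_le_left : V ⊓ U ≤ V)).op)

set_option maxHeartbeats 1000000 in
/-- The sections of a base change on an affine piece, as a tensor product over the base. -/
theorem exists_piece_equiv {X Y A' B' : Scheme.{u}} {p : X ⟶ Y} {a : A' ⟶ Y} {b : B' ⟶ X} {m : B' ⟶ A'}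
    (hpb : IsPullback b m p a) {F : X.Modules} (hF : Coh.IsQCoh F) {V : Y.Opens}
    (hV : IsAffineOpen V) {U : X.Opens} (hU : IsAffineOpen U) (hUV : U ≤ p ⁻¹ᵁ V) {O : A'.Opens}
    (hO : IsAffineOpen O) (hOV : O ≤ a ⁻¹ᵁ V) :
    letI := (p.appLE V U hUV).hom.toAlgebra
    letI := (a.appLE V O hOV).hom.toAlgebra
    letI := Module.compHom Γ(F, U) (p.appLE V U hUV).hom
    haveI : IsScalarTower Γ(Y, V) Γ(X, U) Γ(F, U) := IsScalarTower.of_algebraMap_smul fun _ _ => rfl
    IsAffineOpen (b ⁻¹ᵁ U ⊓ m ⁻¹ᵁ O) ∧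
      ∃ E : Γ(F, U) ⊗[Γ(Y, V)] Γ(A', O) ≃+ Γ((Scheme.Modules.pullback b).obj F, b ⁻¹ᵁ U ⊓ m ⁻¹ᵁ O),
        (∀ (r : Γ(X, U)) z, E (r • z) = (b.appLE U (b ⁻¹ᵁ U ⊓ m ⁻¹ᵁ O) inf_le_left).hom r • E z) ∧
        ∀ s, E (s ⊗ₜ 1) = ModDesc.pullSectLE b F U (b ⁻¹ᵁ U ⊓ m ⁻¹ᵁ O) inf_le_left s := by
  let W : B'.Opens := b ⁻¹ᵁ U ⊓ m ⁻¹ᵁ O
  have hW : IsAffineOpen W := by
    haveI : IsAffine _ := hV
    haveI : IsAffine _ := hU
    haveI : IsAffine _ := hO
    exact .of_isIso (Scheme.Hom.isPullback_resLE hpb hOV hUV (rfl : W = _)).isoPullback.hom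
  have hP := (isIso_pushoutSection_iff hpb hOV hUV (rfl : W = _)).1
    (isIso_pushoutSection_of_isAffineOpen hpb hOV hUV rfl hV hO hU)
  let A := Γ(Y, V)
  let B := Γ(X, U)
  let C := Γ(A', O)
  let B'' := Γ(B', W)
  letI : Algebra A C := (a.appLE V O hOV).hom.toAlgebra
  letI : Algebra A B := (p.appLE V U hUV).hom.toAlgebra
  letI : Algebra B B'' := (b.appLE U W inf_le_left).hom.toAlgebra
  letI : Algebra C B'' := (m.appLE O W inf_le_right).hom.toAlgebra
  letI : Algebra A B'' := ((algebraMap B B'').comp (algebraMap A B)).toAlgebra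
  haveI : IsScalarTower A B B'' := IsScalarTower.of_algebraMap_eq fun _ => rfl
  haveI : IsScalarTower A C B'' := IsScalarTower.of_algebraMap_eq fun r => congr($(hP.w).hom r)
  haveI : Algebra.IsPushout A B C B'' := CommRingCat.isPushout_iff_isPushout.1 hP
  haveI : Algebra.IsPushout A C B B'' := Algebra.IsPushout.symm inferInstance
  letI := Module.compHom Γ(F, U) (p.appLE V U hUV).hom
  haveI : IsScalarTower A B Γ(F, U) := IsScalarTower.of_algebraMap_smul fun _ _ => rfl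
  haveI : Coh.IsQCoh F := hF
  refine ⟨hW, ?_⟩
  obtain ⟨Φ, hΦ⟩ := ModDesc.exists_bijective_liftBaseChange b F hU hW inf_le_left
  let e := Algebra.IsPushout.cancelBaseChange A C B B'' Γ(F, U)
  let E : Γ(F, U) ⊗[A] C ≃+ Γ((Scheme.Modules.pullback b).obj F, W) :=
    (TensorProduct.comm A Γ(F, U) C).toAddEquiv.trans (e.symm.toAddEquiv.trans Φ.toAddEquiv)
  have hE : ∀ (s : Γ(F, U)) (c : C), E (s ⊗ₜ c) = Φ (algebraMap C B'' c ⊗ₜ[B] s) := fun s c =>
    congrArg Φ (Algebra.IsPushout.cancelBaseChange_symm_tmul A C B B'' Γ(F, U) c s)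
  refine ⟨E, fun r z => ?_, fun s => ?_⟩
  · induction z using TensorProduct.induction_on with
    | zero => simp
    | tmul s c =>
      rw [smul_tmul', hE, hE, ← Φ.map_smul, tmul_smul, ← algebraMap_smul B'' r]
      rfl
    | add y z hy hz => simp only [smul_add, map_add, hy, hz]
  · rw [hE, map_one]
    exact hΦ s

variable {X S : Scheme.{u}} (f : X ⟶ S) [LocallyOfFinitePresentation f] {F : X.Modules}

set_option maxHeartbeats 1000000 in
/-- **Fibrewise density gives an element of the ideal of the complement which is regular on the fibre.** -/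
theorem exists_fibRegular_of_dense (hF : Coh.IsQCoh F) (hFP : CohB1.IsFP F) {U : X.Opens} {V : S.Opens}
    (hV : IsAffineOpen V) {U₀ : X.Opens} (hU₀ : IsAffineOpen U₀) (hUV : U₀ ≤ f ⁻¹ᵁ V) {x : X} (hx : x ∈ U₀)
    (hxU : x ∉ U) (hd : ∀ s : S, DenseFor ((Scheme.Modules.pullback (f.fiberι s)).obj F) (f.fiberι s ⁻¹ᵁ U)) :
    letI := (f.appLE V U₀ hUV).hom.toAlgebra
    letI := Module.compHom Γ(F, U₀) (f.appLE V U₀ hUV).hom
    haveI : IsScalarTower Γ(S, V) Γ(X, U₀) Γ(F, U₀) := IsScalarTower.of_algebraMap_smul fun _ _ => rfl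
    ∃ g : Γ(X, U₀), X.basicOpen g ≤ U ∧ FibRegular Γ(S, V) Γ(F, U₀) (hU₀.primeIdealOf ⟨x, hx⟩).asIdeal g := by
  let A := Γ(S, V)
  let B := Γ(X, U₀)
  let M := Γ(F, U₀)
  letI : Algebra A B := (f.appLE V U₀ hUV).hom.toAlgebra
  letI := Module.compHom Γ(F, U₀) (f.appLE V U₀ hUV).hom
  haveI : IsScalarTower A B M := IsScalarTower.of_algebraMap_smul fun _ _ => rfl
  haveI : Algebra.FiniteType A B := LocallyOfFiniteType.finiteType_appLE f hV hU₀ hUV
  haveI : Module.FinitePresentation B M := LocFree.finitePresentation_sections_of_isFP hF hFP hU₀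
  let q := (hU₀.primeIdealOf ⟨x, hx⟩).asIdeal
  let I : Ideal B := ⨅ y : {y : U₀ // y.1 ∉ U}, (hU₀.primeIdealOf y.1).asIdeal
  have hI : ∀ a ∈ I, X.basicOpen a ≤ U := fun a ha y hy => by
    by_contra hyU
    have hy₀ : y ∈ U₀ := X.basicOpen_le a hy
    exact (WeakAssLib.mem_primeIdealOf hU₀ hy₀ a).1 hy ((Submodule.mem_iInf _).1 ha ⟨⟨y, hy₀⟩, hyU⟩)
  suffices H : ∃ g ∈ I, FibRegular A M q g from let ⟨g, hg, hreg⟩ := H; ⟨g, hI g hg, hreg⟩
  refine exists_fibRegular q I fun m hm => ?_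
  let p := q.comap (algebraMap A B)
  obtain ⟨s, hs, θ, hθ⟩ := SepFam.exists_residue_alg hV p
  let k := Γ(Spec (S.residueField s), ⊤)
  letI : Algebra A k := ((S.fromSpecResidueField s).appLE V ⊤ hs).hom.toAlgebra
  let θA : k →ₐ[A] p.ResidueField := { θ with commutes' := hθ }
  have hθinj : Function.Injective θ := (letI := (SepFam.isField_Γ_Spec (S.residueField s)).toField; θ.injective)
  have hkill : ∀ a ∈ p, algebraMap A k a = 0 := fun a ha => hθinj (by
    rw [map_zero]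
    exact (hθ a).trans (Ideal.algebraMap_residueField_eq_zero.2 ha))
  obtain ⟨hW, E, hEsmul, hE1⟩ := exists_piece_equiv (IsPullback.of_hasPullback f (S.fromSpecResidueField s)) hF hV hU₀ hUV
    (isAffineOpen_top (Spec (S.residueField s))) hs
  let b := f.fiberι s
  let W := b ⁻¹ᵁ U₀ ⊓ (pullback.snd f (S.fromSpecResidueField s)) ⁻¹ᵁ ⊤
  let P := (Scheme.Modules.pullback b).obj F
  haveI : LocallyOfFiniteType (f.fiberToSpecResidueField s) :=
    inferInstanceAs (LocallyOfFiniteType (pullback.snd f (S.fromSpecResidueField s)))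
  haveI : IsLocallyNoetherian (f.fiber s) := LocallyOfFiniteType.isLocallyNoetherian (f.fiberToSpecResidueField s)
  haveI : IsNoetherianRing Γ(f.fiber s, W) := IsLocallyNoetherian.component_noetherian ⟨W, hW⟩
  let β : B →+* Γ(f.fiber s, W) := (b.appLE U₀ W inf_le_left).hom
  have hpM : ∀ y ∈ (p.map (algebraMap A B)) • (⊤ : Submodule B M), E (y ⊗ₜ 1) = 0 := by
    intro y hy
    refine Submodule.smul_induction_on hy (fun c hc z hz' => ?_) fun y z hy hz => by rw [add_tmul, map_add, hy, hz, add_zero]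
    clear hz'
    induction hc using Submodule.span_induction generalizing z with
    | mem c hc =>
      obtain ⟨a, ha, rfl⟩ := hc
      rw [algebraMap_smul, smul_tmul, ← Algebra.algebraMap_eq_smul_one, hkill a ha, tmul_zero, map_zero]
    | zero => rw [zero_smul, zero_tmul, map_zero]
    | add c e _ _ hc he => rw [add_smul, add_tmul, map_add, hc z, he z, add_zero]
    | smul r c _ hc => rw [smul_eq_mul, mul_comm, mul_smul]; exact hc _
  classical
  obtain ⟨T, hTI, hTmap⟩ : ∃ T : Finset B, (T : Set B) ⊆ I ∧ I.map β ≤ Ideal.span (β '' T) := by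
    obtain ⟨T', hT'⟩ := (IsNoetherian.noetherian (I.map β))
    have hsub : (T' : Set Γ(f.fiber s, W)) ⊆ I.map β := fun z hz => hT' ▸ Submodule.subset_span hz
    have : ∀ z ∈ Ideal.map β I, ∃ T : Finset B, (T : Set B) ⊆ I ∧ z ∈ Ideal.span (β '' T) := fun z hz => by
      induction hz using Submodule.span_induction with
      | mem z hz =>
        obtain ⟨a, ha, rfl⟩ := hz
        exact ⟨{a}, by simpa using ha, Ideal.subset_span ⟨a, by simp, rfl⟩⟩
      | zero => exact ⟨∅, by simp, zero_mem _⟩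
      | add y z _ _ hy hz =>
        obtain ⟨T₁, h₁, hy⟩ := hy
        obtain ⟨T₂, h₂, hz⟩ := hz
        refine ⟨T₁ ∪ T₂, by simp [h₁, h₂], ?_⟩
        rw [Finset.coe_union, Set.image_union]
        exact add_mem (Ideal.span_mono Set.subset_union_left hy) (Ideal.span_mono Set.subset_union_right hz)
      | smul r z _ hz =>
        obtain ⟨T₁, h₁, hz⟩ := hz
        exact ⟨T₁, h₁, Ideal.mul_mem_left _ r hz⟩
    choose! TT hTT using this
    refine ⟨T'.biUnion TT, ?_, ?_⟩
    · intro a ha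
      simp only [Finset.coe_biUnion, Set.mem_iUnion] at ha
      obtain ⟨z, hz, ha⟩ := ha
      exact (hTT z (hsub hz)).1 ha
    · rw [← hT']
      refine Submodule.span_le.2 fun z hz => Ideal.span_mono (Set.image_mono ?_) (hTT z (hsub hz)).2
      exact Finset.coe_subset.2 (Finset.subset_biUnion_of_mem TT hz)
  choose! ca hca hcam using hm
  let c := ∏ a ∈ T, ca a
  have hcq : c ∉ q := fun h => by
    obtain ⟨a, ha, h1⟩ := (Ideal.IsPrime.prod_mem_iff (p := q)).1 h
    exact hca a (hTI ha) h1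
  let z : Γ(P, W) := E ((c • m) ⊗ₜ 1)
  have hTz : ∀ a ∈ T, β a • z = 0 := fun a ha => by
    refine (hEsmul a _).symm.trans ?_
    rw [smul_tmul']
    refine hpM _ ?_
    obtain ⟨d, hd⟩ := Finset.dvd_prod_of_mem ca ha
    rw [show c = ca a * d from hd, mul_comm (ca a) d, mul_smul, smul_comm a d]
    refine Submodule.smul_mem _ d ?_
    rw [smul_comm a (ca a)]
    exact hcam a (hTI ha)
  have hIz : ∀ a ∈ I, β a • z = 0 := fun a ha => by
    have h1 : Ideal.span (β '' T) ≤ LinearMap.ker (LinearMap.toSpanSingleton Γ(f.fiber s, W) _ z) :=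
      Ideal.span_le.2 (by rintro _ ⟨a, ha, rfl⟩; exact hTz a ha)
    exact h1 (hTmap (Ideal.mem_map_of_mem β ha))
  have hLP : IsLoc P W := isLoc_of_isQCoh hW (hM := isQCoh_pullback b hF)
  have hz0 : z = 0 := by
    apply hd s W
    rw [map_zero]
    refine WeakAssLib.ext_germ P _ fun y hy => ?_
    change WeakAssLib.mgerm P hy (res P inf_le_left z) = 0
    rw [WeakAssLib.mgerm_res]
    have hyU₀ : b y ∈ U₀ := hy.1.1
    obtain ⟨a, haU, hya⟩ := hU₀.exists_basicOpen_le (V := U) ⟨b y, hy.2⟩ hyU₀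
    have haI : a ∈ I := (Submodule.mem_iInf _).2 fun w => by
      by_contra hw
      exact w.2 (haU ((WeakAssLib.mem_primeIdealOf hU₀ w.1.2 a).2 hw))
    have hyD : y ∈ (f.fiber s).basicOpen (β a) := by
      rw [Scheme.basicOpen_appLE]
      exact ⟨hy.1, hya⟩
    have h2 := congrArg (WeakAssLib.mgerm P hy.1) (hIz a haI)
    rw [WeakAssLib.mgerm_smul, map_zero] at h2
    exact ((Scheme.mem_basicOpen _ _ y hy.1).1 hyD).smul_eq_zero.1 h2
  have h3 : (c • m) ⊗ₜ[A] (1 : k) = 0 := E.injective (by rw [map_zero]; exact hz0)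
  have h4 : (1 : p.ResidueField) ⊗ₜ[A] (c • m) = 0 := by
    have h5 := congrArg ((TensorProduct.comm A M p.ResidueField).toLinearMap ∘ₗ θA.toLinearMap.lTensor M) h3
    simpa using h5
  have h6 := mem_below_of_tmul_eq_zero q (c • m) h4
  rw [map_smul, ← algebraMap_smul (Localization.AtPrime q) c] at h6
  exact (Submodule.smul_mem_iff_of_isUnit _ (IsLocalization.map_units (Localization.AtPrime q) (⟨c, hcq⟩ : q.primeCompl))).1 h6

set_option maxHeartbeats 1000000 in
/-- **Fibrewise density gives density after every base change.** -/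
theorem denseFor_of_fibres (hF : Coh.IsQCoh F) (hFP : CohB1.IsFP F) (hflat : FlatMod.IsFlatOver f F) {U : X.Opens}
    (hd : ∀ s : S, DenseFor ((Scheme.Modules.pullback (f.fiberι s)).obj F) (f.fiberι s ⁻¹ᵁ U))
    {S' B' : Scheme.{u}} {g : S' ⟶ S} {b : B' ⟶ X} {m : B' ⟶ S'} (hpb : IsPullback b m f g) :
    DenseFor ((Scheme.Modules.pullback b).obj F) (b ⁻¹ᵁ U) := by
  intro V'
  let P := (Scheme.Modules.pullback b).obj F
  change Function.Injective (res P (inf_le_left : V' ⊓ b ⁻¹ᵁ U ≤ V'))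
  refine (injective_iff_map_eq_zero _).2 fun t ht => WeakAssLib.ext_germ P t fun x' hx' => ?_
  by_cases hxU : b x' ∈ U
  · have h1 : x' ∈ V' ⊓ b ⁻¹ᵁ U := ⟨hx', hxU⟩
    have h2 := congrArg (WeakAssLib.mgerm P h1) ht
    rwa [WeakAssLib.mgerm_res, map_zero] at h2
  obtain ⟨V, hV, U₀, hU₀, hUV, O, hO, hOV, hxU₀, hxO⟩ := SepFam.exists_chart hpb.w x'
  let A := Γ(S, V)
  let B := Γ(X, U₀)
  let M := Γ(F, U₀)
  letI : Algebra A B := (f.appLE V U₀ hUV).hom.toAlgebra
  letI : Algebra A Γ(S', O) := (g.appLE V O hOV).hom.toAlgebra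
  letI := Module.compHom Γ(F, U₀) (f.appLE V U₀ hUV).hom
  haveI : IsScalarTower A B M := IsScalarTower.of_algebraMap_smul fun _ _ => rfl
  haveI : Algebra.FinitePresentation A B := LocallyOfFinitePresentation.finitePresentation_appLE f hV hU₀ hUV
  haveI : Module.FinitePresentation B M := LocFree.finitePresentation_sections_of_isFP hF hFP hU₀
  haveI : Module.Flat A M := (FlatModB.flat_sections_iff f F hF hU₀ hV hUV).2 fun y _ => hflat y
  obtain ⟨a, haU, hareg⟩ := exists_fibRegular_of_dense f hF hFP hV hU₀ hUV hxU₀ hxU hd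
  obtain ⟨h, hhq, htor⟩ := exists_univ_regular (A := A) (M := M) _ a hareg
  obtain ⟨hW, E, hEsmul, -⟩ := exists_piece_equiv hpb hF hV hU₀ hUV hO hOV
  let W := b ⁻¹ᵁ U₀ ⊓ m ⁻¹ᵁ O
  let β : B →+* Γ(B', W) := (b.appLE U₀ W inf_le_left).hom
  have hxh : x' ∈ B'.basicOpen (β h) := by
    rw [Scheme.basicOpen_appLE]
    exact ⟨⟨hxU₀, hxO⟩, (WeakAssLib.mem_primeIdealOf hU₀ hxU₀ h).2 hhq⟩
  obtain ⟨r, hr, hxr⟩ := hW.exists_basicOpen_le (V := V' ⊓ B'.basicOpen (β h)) ⟨x', ⟨hx', hxh⟩⟩ ⟨hxU₀, hxO⟩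
  have hLP : IsLoc P W := isLoc_of_isQCoh hW (hM := isQCoh_pullback b hF)
  obtain ⟨n, ξ, hξ⟩ := hLP.exists_extend r (res P (hr.trans inf_le_left) t)
  have hle : B'.basicOpen (r * β a) ≤ V' ⊓ b ⁻¹ᵁ U := by
    rw [Scheme.basicOpen_mul, Scheme.basicOpen_appLE]
    exact le_inf (inf_le_left.trans (hr.trans inf_le_left)) (inf_le_right.trans (inf_le_right.trans (b.preimage_mono haU)))
  have hD : B'.basicOpen (r * β a) ≤ B'.basicOpen r := (Scheme.basicOpen_mul _ _ _).le.trans inf_le_left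
  have hzero : res P (B'.basicOpen_le (r * β a)) ξ = 0 := by
    rw [← res_res P hD (B'.basicOpen_le r), hξ, res_smul, res_res]
    have h2 : res P (hD.trans (hr.trans inf_le_left)) t = 0 := by
      rw [← res_res P hle (inf_le_left : V' ⊓ b ⁻¹ᵁ U ≤ V'), ht, map_zero]
    rw [h2, smul_zero]
  obtain ⟨k, hk⟩ := hLP.exists_pow_smul_eq_zero _ _ hzero
  have hy : a ^ k • E.symm (r ^ k • ξ) = 0 := E.injective (by
    rw [hEsmul, AddEquiv.apply_symm_apply, map_pow, smul_smul, ← mul_pow, mul_comm, hk, map_zero])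
  obtain ⟨j, hj⟩ := exists_pow_smul_eq_zero_of_pow a h (htor Γ(S', O)) k _ hy
  have h3 := congrArg E hj
  rw [hEsmul, AddEquiv.apply_symm_apply, map_zero, map_pow, smul_smul] at h3
  have hur : IsUnit ((B'.presheaf.germ W x' ⟨hxU₀, hxO⟩).hom r) := (Scheme.mem_basicOpen _ _ x' _).1 hxr
  have huh : IsUnit ((B'.presheaf.germ W x' ⟨hxU₀, hxO⟩).hom (β h)) := (Scheme.mem_basicOpen _ _ x' _).1 hxh
  have h4 := congrArg (WeakAssLib.mgerm P (show x' ∈ W from ⟨hxU₀, hxO⟩)) h3
  rw [WeakAssLib.mgerm_smul, map_zero, map_mul, map_pow, map_pow] at h4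
  have h5 := ((huh.pow j).mul (hur.pow k)).smul_eq_zero.1 h4
  rw [← WeakAssLib.mgerm_res P (B'.basicOpen_le r) hxr ξ, hξ, WeakAssLib.mgerm_smul] at h5
  have hu : IsUnit ((B'.presheaf.germ (B'.basicOpen r) x' hxr).hom (resO B' (B'.basicOpen_le r) r ^ n)) := by
    rw [map_pow, TopCat.Presheaf.germ_res_apply]; exact hur.pow n
  rw [← WeakAssLib.mgerm_res P (hr.trans inf_le_left) hxr t]
  exact hu.smul_eq_zero.1 h5

end Groth.Agent.SchDense
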