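import Groth.Agent.InjFibre.SliceAlg

/-!
# Elements regular on a fibre are universally regular nearby
-/

universe u

set_option autoImplicit false
set_option linter.style.haveILetI false
set_option backward.isDefEq.respectTransparency false

open TensorProduct

namespace Groth.Agent.SchDense

/-- An ideal without regular element kills a non-zero element. -/
theorem exists_regular_or_exists_killed {R M : Type u} [CommRing R] [IsNoetherianRing R] [AddCommGroup M]
    [Module R M] [Module.Finite R M] (I : Ideal R) :
    (∃ g ∈ I, IsSMulRegular M g) ∨ ∃ z : M, z ≠ 0 ∧ ∀ a ∈ I, a • z = 0 := by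
  by_cases h : ∃ g ∈ I, IsSMulRegular M g
  · exact Or.inl h
  push Not at h
  refine Or.inr ?_
  have hsub : (I : Set R) ⊆ ⋃ p ∈ associatedPrimes R M, (p : Set R) := by
    rw [biUnion_associatedPrimes_eq_compl_regular]
    exact fun a ha => h a ha
  obtain ⟨P, hP, hIP⟩ := (Ideal.subset_union_prime_finite (associatedPrimes.finite R M) (f := id) 0 0
    fun i hi _ _ => hi.isPrime).1 hsub
  obtain ⟨hPp, z, hz⟩ := isAssociatedPrime_iff.1 hP
  have hz0 : z ≠ 0 := by
    rintro rfl
    refine hPp.ne_top ((Ideal.eq_top_iff_one _).2 ?_)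
    rw [hz, Submodule.mem_colon_singleton]
    simp
  refine ⟨z, hz0, fun a ha => ?_⟩
  have h1 : a ∈ P := hIP ha
  rw [hz, Submodule.mem_colon_singleton] at h1
  simpa using h1

variable {A B : Type u} [CommRing A] [CommRing B] [Algebra A B] {M : Type u} [AddCommGroup M] [Module B M]
  [Module A M] [IsScalarTower A B M]

/-- The extension of the prime below `q`, in `B_q`. -/
noncomputable abbrev belowIdeal (A : Type u) {B : Type u} [CommRing A] [CommRing B] [Algebra A B] (q : Ideal B) [q.IsPrime] :
    Ideal (Localization.AtPrime q) :=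
  (q.comap (algebraMap A B)).map (algebraMap A (Localization.AtPrime q))

variable (A M) in
/-- `g` is regular on the fibre at `q`. -/
def FibRegular (q : Ideal B) [q.IsPrime] (g : B) : Prop :=
  ∀ x : LocalizedModule q.primeCompl M, g • x ∈ belowIdeal A q • (⊤ : Submodule (Localization.AtPrime q) (LocalizedModule q.primeCompl M)) →
    x ∈ belowIdeal A q • (⊤ : Submodule (Localization.AtPrime q) (LocalizedModule q.primeCompl M))

omit [Module A M] [IsScalarTower A B M] in
/-- Membership in the extended ideal, without denominators. -/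
theorem exists_of_mem_below (q : Ideal B) [q.IsPrime] (m : M)
    (h : LocalizedModule.mkLinearMap q.primeCompl M m ∈
      belowIdeal A q • (⊤ : Submodule (Localization.AtPrime q) (LocalizedModule q.primeCompl M))) :
    ∃ c ∉ q, c • m ∈ (q.comap (algebraMap A B)).map (algebraMap A B) • (⊤ : Submodule B M) := by
  let J := (q.comap (algebraMap A B)).map (algebraMap A B)
  let f := LocalizedModule.mkLinearMap q.primeCompl M
  have key : ∀ y ∈ belowIdeal A q • (⊤ : Submodule (Localization.AtPrime q) (LocalizedModule q.primeCompl M)),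
      y ∈ (J • (⊤ : Submodule B M)).localized' (Localization.AtPrime q) q.primeCompl f := by
    intro y hy
    rwa [Submodule.localized'_smul, Submodule.localized'_top, Ideal.localized'_eq_map, Ideal.map_map,
      ← IsScalarTower.algebraMap_eq]
  obtain ⟨m', hm', s, hs⟩ := (Submodule.mem_localized' _ _ _ _ _).1 (key _ h)
  rw [IsLocalizedModule.mk'_eq_iff, Submonoid.smul_def, ← map_smul] at hs
  obtain ⟨c, hc⟩ := IsLocalizedModule.exists_of_eq (S := q.primeCompl) (f := f) hs
  refine ⟨c * s, fun hm => ?_, ?_⟩
  · rcases Ideal.IsPrime.mem_or_mem inferInstance hm with h1 | h1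
    · exact c.2 h1
    · exact s.2 h1
  · rw [mul_smul, show (c : B) • ((s : B) • m) = c • ((s : B) • m) from rfl, ← hc]
    exact Submodule.smul_mem _ (c : B) hm'

/-- If the image in the fibre vanishes, the element lies in the extended ideal. -/
theorem mem_below_of_tmul_eq_zero (q : Ideal B) [q.IsPrime] (m : M)
    (h : (1 : (q.comap (algebraMap A B)).ResidueField) ⊗ₜ[A] m = 0) :
    LocalizedModule.mkLinearMap q.primeCompl M m ∈
      belowIdeal A q • (⊤ : Submodule (Localization.AtPrime q) (LocalizedModule q.primeCompl M)) := by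
  let p := q.comap (algebraMap A B)
  let Bq := Localization.AtPrime q
  let L := LocalizedModule q.primeCompl M
  let J := belowIdeal A q
  let P := L ⧸ J • (⊤ : Submodule Bq L)
  let R := Localization.AtPrime p
  let φ : R →+* Bq := Localization.localRingHom p q (algebraMap A B) rfl
  have hφ : ∀ a, φ (algebraMap A R a) = algebraMap A Bq a := fun a => by
    rw [Localization.localRingHom_to_map]
    exact (IsScalarTower.algebraMap_apply A B Bq a).symm
  have hm : (IsLocalRing.maximalIdeal R).map φ ≤ J := by
    rw [← Localization.AtPrime.map_eq_maximalIdeal, Ideal.map_map, show φ.comp (algebraMap A R) = algebraMap A Bq from RingHom.ext hφ]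
  let ψ : p.ResidueField →+* Bq ⧸ J :=
    Ideal.Quotient.lift _ ((Ideal.Quotient.mk J).comp φ) fun a ha =>
      Ideal.Quotient.eq_zero_iff_mem.2 (hm (Ideal.mem_map_of_mem _ ha))
  let π : M →+ L ⧸ J • (⊤ : Submodule Bq L) :=
    (J • (⊤ : Submodule Bq L)).mkQ.toAddMonoidHom.comp (LocalizedModule.mkLinearMap q.primeCompl M).toAddMonoidHom
  let bil : p.ResidueField →+ M →+ L ⧸ J • (⊤ : Submodule Bq L) :=
    { toFun := fun t => AddMonoidHom.mk' (fun m => ψ t • π m) fun m m' => by rw [map_add, smul_add]
      map_zero' := AddMonoidHom.ext fun m => by simp only [AddMonoidHom.mk'_apply, map_zero]; exact zero_smul (Bq ⧸ J) (π m)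
      map_add' := fun t t' => AddMonoidHom.ext fun m => by simp only [AddMonoidHom.mk'_apply, map_add, AddMonoidHom.add_apply]; exact add_smul _ _ _ }
  let Ψ : p.ResidueField ⊗[A] M →+ L ⧸ J • (⊤ : Submodule Bq L) := TensorProduct.liftAddHom bil fun a t m => by
    simp only [bil, AddMonoidHom.coe_mk, ZeroHom.coe_mk, AddMonoidHom.mk'_apply]
    rw [Algebra.smul_def, map_mul, mul_comm, mul_smul,
      show ψ (algebraMap A p.ResidueField a) = Ideal.Quotient.mk J (algebraMap A Bq a) by
        rw [← hφ a, IsScalarTower.algebraMap_apply A R p.ResidueField]; rfl]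
    congr 1
    change algebraMap A Bq a • π m = π (a • m)
    change algebraMap A Bq a • (J • (⊤ : Submodule Bq L)).mkQ (LocalizedModule.mkLinearMap q.primeCompl M m) =
      (J • (⊤ : Submodule Bq L)).mkQ (LocalizedModule.mkLinearMap q.primeCompl M (a • m))
    rw [← algebraMap_smul B a m, map_smul, ← algebraMap_smul Bq (algebraMap A B a), ← IsScalarTower.algebraMap_apply, map_smul]
  have h1 : Ψ ((1 : p.ResidueField) ⊗ₜ[A] m) = 0 := by rw [h, map_zero]
  change ψ 1 • π m = 0 at h1
  rw [map_one, one_smul] at h1
  exact (Submodule.Quotient.mk_eq_zero _).1 h1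

/-- Flatness of the cokernel of a localized map. -/
theorem flat_coker_localized_iff (G : Submonoid B) (φ : M →ₗ[B] M) :
    Module.Flat A (LocalizedModule G M ⧸ LinearMap.range (LocalizedModule.map G φ)) ↔
      Module.Flat A (LocalizedModule G (M ⧸ LinearMap.range φ)) := by
  have hr : (LinearMap.range φ).localized G = LinearMap.range (LocalizedModule.map G φ) :=
    LinearMap.localized'_range_eq_range_localizedMap (Localization G) G
      (LocalizedModule.mkLinearMap G M) (LocalizedModule.mkLinearMap G M) φ
  let e := ((Submodule.quotEquivOfEq _ _ hr).symm.trans (localizedQuotientEquiv G (LinearMap.range φ))).restrictScalars A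
  exact ⟨fun h => haveI := h; Module.Flat.of_linearEquiv e.symm, fun h => haveI := h; Module.Flat.of_linearEquiv e⟩

omit [Module A M] [IsScalarTower A B M] in
theorem lTensor_comm_apply {P Q C : Type u} [AddCommGroup P] [Module A P] [AddCommGroup Q] [Module A Q]
    [AddCommGroup C] [Module A C] (f : P →ₗ[A] Q) (z : P ⊗[A] C) :
    f.lTensor C (TensorProduct.comm A P C z) = TensorProduct.comm A Q C (f.rTensor C z) := by
  induction z using TensorProduct.induction_on with
  | zero => simp
  | tmul m c => simp
  | add a b ha hb => simp only [map_add, ha, hb]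

/-- An injective localized map with flat cokernel is injective up to torsion after tensoring. -/
theorem exists_smul_eq_zero_of_localized (G : Submonoid B) (φ : M →ₗ[B] M)
    (hinj : Function.Injective (LocalizedModule.map G φ))
    [Module.Flat A (LocalizedModule G M ⧸ LinearMap.range (LocalizedModule.map G φ))]
    (C : Type u) [AddCommGroup C] [Module A C] (y : M ⊗[A] C)
    (hy : TensorProduct.AlgebraTensorModule.rTensor A C φ y = 0) : ∃ s : G, (s : B) • y = 0 := by
  let φh := (LocalizedModule.map G φ).restrictScalars A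
  let R₀ := LinearMap.range (LocalizedModule.map G φ)
  let πh : LocalizedModule G M →ₗ[A] LocalizedModule G M ⧸ R₀ :=
    { toFun := Submodule.Quotient.mk
      map_add' := fun _ _ => rfl
      map_smul' := fun a z => Submodule.Quotient.mk_smul R₀ a z }
  have hπ : Function.Surjective πh := Submodule.Quotient.mk_surjective _
  have hex : Function.Exact φh πh := fun z => by
    change (Submodule.Quotient.mk z : LocalizedModule G M ⧸ R₀) = 0 ↔ z ∈ Set.range (LocalizedModule.map G φ)
    rw [Submodule.Quotient.mk_eq_zero, LinearMap.mem_range, Set.mem_range]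
  have hinj' : Function.Injective φh := hinj
  have hi : Function.Injective (φh.lTensor C) :=
    LinearMap.lTensor_injective_of_exact_of_flat πh hπ φh hinj' hex C
  let F := TensorProduct.AlgebraTensorModule.rTensor A C (LocalizedModule.mkLinearMap G M)
  haveI : IsLocalizedModule G F := inferInstance
  have h6 : ∀ z, φh.rTensor C (F z) = F (TensorProduct.AlgebraTensorModule.rTensor A C φ z) := fun z => by
    induction z using TensorProduct.induction_on with
    | zero => simp
    | tmul m c => simp [F, φh, LocalizedModule.map_mk]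
    | add a b ha hb => simp only [map_add, ha, hb]
  have h7 : TensorProduct.comm A _ C (F y) = 0 := by
    refine hi ?_
    rw [lTensor_comm_apply, h6, hy, map_zero, map_zero, map_zero]
  exact (IsLocalizedModule.eq_zero_iff G F).1 ((TensorProduct.comm A _ C).injective (h7.trans (map_zero _).symm))

variable [Algebra.FinitePresentation A B] [Module.FinitePresentation B M] [Module.Flat A M]

/-- An element regular on the fibre at `q` is universally regular near `q`. -/
theorem exists_univ_regular (q : Ideal B) [q.IsPrime] (g : B) (hg : FibRegular A M q g) :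
    ∃ h ∉ q, ∀ (C : Type u) [AddCommGroup C] [Module A C] (y : M ⊗[A] C), g • y = 0 → ∃ j : ℕ, h ^ j • y = 0 := by
  let φ : M →ₗ[B] M := LinearMap.lsmul B M g
  haveI : Module.FinitePresentation (Localization.AtPrime q) (LocalizedModule q.primeCompl M) := inferInstance
  haveI : Module.Flat A (LocalizedModule q.primeCompl M) :=
    InjFibre.flat_localized (R := A) q.primeCompl (LocalizedModule.mkLinearMap q.primeCompl M)
  let u : LocalizedModule q.primeCompl M →ₗ[Localization.AtPrime q] LocalizedModule q.primeCompl M :=
    LinearMap.lsmul (Localization.AtPrime q) _ (algebraMap B (Localization.AtPrime q) g)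
  obtain ⟨hinj, hflat⟩ := InjFibre.atPrime (R := A) q u fun x hx => hg x (by rwa [← algebraMap_smul (Localization.AtPrime q) g x])
  have hmem : (⟨q, inferInstance⟩ : PrimeSpectrum B) ∈ {q : PrimeSpectrum B |
      (∀ m, (∃ a ∉ q.asIdeal, a • φ m = 0) → ∃ a ∉ q.asIdeal, a • m = 0) ∧
      Module.Flat A (LocalizedModule q.asIdeal.primeCompl (M ⧸ LinearMap.range φ))} := by
    refine ⟨?_, ?_⟩
    · rintro m ⟨a, ha, ham⟩
      have h1 : u (LocalizedModule.mkLinearMap q.primeCompl M m) = 0 := by
        have h2 : a • LocalizedModule.mkLinearMap q.primeCompl M (g • m) = 0 := by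
          rw [← map_smul]; exact (congrArg _ ham).trans (map_zero _)
        rw [← algebraMap_smul (Localization.AtPrime q) a, IsUnit.smul_eq_zero (IsLocalization.map_units (Localization.AtPrime q) (⟨a, ha⟩ : q.primeCompl))] at h2
        simpa [u, algebraMap_smul] using h2
      have h3 : LocalizedModule.mkLinearMap q.primeCompl M m = 0 := hinj (by rw [h1, map_zero])
      obtain ⟨c, hc, hcm⟩ := LocalizedModule.mem_ker_mkLinearMap_iff.1 (show m ∈ LinearMap.ker _ from h3)
      exact ⟨c, hc, hcm⟩
    · refine (flat_coker_localized_iff q.primeCompl φ).1 ?_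
      have hmap : LocalizedModule.map q.primeCompl φ = u := LinearMap.ext fun x => by
        induction x using LocalizedModule.induction_on with
        | h m s =>
          rw [LocalizedModule.map_mk]
          simp only [u, φ, LinearMap.lsmul_apply]
          rw [algebraMap_smul, LocalizedModule.smul'_mk]
      rw [hmap]
      exact hflat
  obtain ⟨_, ⟨h, rfl⟩, hqh, hsub⟩ :=
    PrimeSpectrum.isTopologicalBasis_basic_opens.exists_subset_of_mem_open hmem (InjFibre.isOpen_inj_flat (R := A) φ)
  refine ⟨h, hqh, fun C _ _ y hy => ?_⟩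
  let G := Submonoid.powers h
  let L := LocalizedModule G M
  let φh : L →ₗ[Localization G] L := LocalizedModule.map G φ
  have hφinj : Function.Injective φh := by
    refine (injective_iff_map_eq_zero _).2 fun z hz => ?_
    induction z using LocalizedModule.induction_on with
    | h m s =>
      rw [LocalizedModule.map_mk, ← LocalizedModule.zero_mk s, LocalizedModule.mk_eq] at hz
      obtain ⟨⟨_, n, rfl⟩, hn⟩ := hz
      have h4 : ∀ q' : PrimeSpectrum B, q' ∈ PrimeSpectrum.basicOpen h → ∃ a ∉ q'.asIdeal, a • m = 0 := fun q' hq' =>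
        (hsub hq').1 m ⟨h ^ n * s.1, fun hmem => by
          rcases q'.2.mem_or_mem hmem with h5 | h5
          · exact hq' (q'.2.mem_of_pow_mem n h5)
          · obtain ⟨k, hk⟩ := s.2
            rw [← hk] at h5
            exact hq' (q'.2.mem_of_pow_mem k h5), by simpa [Submonoid.smul_def, mul_smul] using hn⟩
      have hrad : h ∈ Ideal.radical (LinearMap.ker (LinearMap.toSpanSingleton B M m)) := by
        rw [Ideal.radical_eq_sInf, Submodule.mem_sInf]
        rintro P ⟨hP, hPp⟩
        by_contra hhP
        obtain ⟨a, ha, ham⟩ := h4 ⟨P, hPp⟩ hhP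
        exact ha (hP ham)
      obtain ⟨k, hk⟩ := hrad
      rw [← LocalizedModule.zero_mk (1 : G), LocalizedModule.mk_eq]
      exact ⟨⟨h ^ k, k, rfl⟩, by simpa [Submonoid.smul_def] using (show h ^ k • m = 0 from hk)⟩
  have hfl : Module.Flat A (L ⧸ LinearMap.range φh) :=
    (flat_coker_localized_iff G φ).2
      ((InjFibre.flat_localized_comap_iff (B := B) (C := B) G).2 fun r hr => (hsub (hr h (Submonoid.mem_powers h))).2)
  haveI := hfl
  obtain ⟨⟨_, j, rfl⟩, hj⟩ := exists_smul_eq_zero_of_localized G φ hφinj C y
    (by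
      have : ∀ z : M ⊗[A] C, TensorProduct.AlgebraTensorModule.rTensor A C φ z = g • z := fun z => by
        induction z using TensorProduct.induction_on with
        | zero => simp
        | tmul m c => simp [φ, smul_tmul']
        | add a b ha hb => simp only [smul_add, map_add, ha, hb]
      rw [this, hy])
  exact ⟨j, hj⟩

omit [Algebra.FinitePresentation A B] [Module.FinitePresentation B M] [Module.Flat A M] in
/-- Iterated torsion. -/
theorem exists_pow_smul_eq_zero_of_pow {P : Type u} [AddCommGroup P] [Module B P] (g h : B)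
    (H : ∀ y : P, g • y = 0 → ∃ j : ℕ, h ^ j • y = 0) (k : ℕ) (y : P) (hy : g ^ k • y = 0) :
    ∃ j : ℕ, h ^ j • y = 0 := by
  induction k generalizing y with
  | zero => exact ⟨0, by simpa using hy⟩
  | succ k ih =>
    obtain ⟨j, hj⟩ := H (g ^ k • y) (by rw [smul_smul, ← pow_succ']; exact hy)
    obtain ⟨j', hj'⟩ := ih (h ^ j • y) (by rw [smul_comm]; exact hj)
    exact ⟨j' + j, by rw [pow_add, mul_smul]; exact hj'⟩

omit [Algebra.FinitePresentation A B] [Module.FinitePresentation B M] [Module.Flat A M] [Module A M] [IsScalarTower A B M] in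
/-- An ideal containing no element regular on the fibre at `q` kills an element of the fibre. -/
theorem exists_fibRegular [Algebra.FiniteType A B] [Module.Finite B M] (q : Ideal B) [q.IsPrime] (I : Ideal B)
    (H : ∀ m : M, (∀ a ∈ I, ∃ c ∉ q, c • a • m ∈ (q.comap (algebraMap A B)).map (algebraMap A B) • (⊤ : Submodule B M)) →
      LocalizedModule.mkLinearMap q.primeCompl M m ∈
        belowIdeal A q • (⊤ : Submodule (Localization.AtPrime q) (LocalizedModule q.primeCompl M))) :
    ∃ g ∈ I, FibRegular A M q g := by
  let p := q.comap (algebraMap A B)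
  let Bq := Localization.AtPrime q
  let J := belowIdeal A q
  let R := Localization.AtPrime p
  let φ : R →+* Bq := Localization.localRingHom p q (algebraMap A B) rfl
  have hm : (IsLocalRing.maximalIdeal R).map φ ≤ J := by
    rw [← Localization.AtPrime.map_eq_maximalIdeal, Ideal.map_map]
    refine le_of_eq (congrArg (fun f => Ideal.map f p) (RingHom.ext fun a => ?_))
    rw [RingHom.comp_apply, Localization.localRingHom_to_map]
    exact (IsScalarTower.algebraMap_apply A B Bq a).symm
  let ψ : p.ResidueField →+* Bq ⧸ J :=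
    Ideal.Quotient.lift _ ((Ideal.Quotient.mk J).comp φ) fun a ha =>
      Ideal.Quotient.eq_zero_iff_mem.2 (hm (Ideal.mem_map_of_mem _ ha))
  letI : Algebra p.ResidueField (Bq ⧸ J) := ψ.toAlgebra
  haveI : IsScalarTower A p.ResidueField (Bq ⧸ J) := IsScalarTower.of_algebraMap_eq fun a => by
    change Ideal.Quotient.mk J (algebraMap A Bq a) = ψ (algebraMap A p.ResidueField a)
    rw [IsScalarTower.algebraMap_apply A R p.ResidueField]
    refine congrArg (Ideal.Quotient.mk J) ?_
    rw [IsScalarTower.algebraMap_apply A B Bq]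
    exact (Localization.localRingHom_to_map _ _ _ _ a).symm
  haveI : Algebra.EssFiniteType B Bq := Algebra.EssFiniteType.of_isLocalization Bq q.primeCompl
  haveI : Algebra.EssFiniteType A Bq := Algebra.EssFiniteType.comp A B Bq
  haveI : Algebra.EssFiniteType A (Bq ⧸ J) := Algebra.EssFiniteType.comp A Bq (Bq ⧸ J)
  haveI : Algebra.EssFiniteType p.ResidueField (Bq ⧸ J) := Algebra.EssFiniteType.of_comp A p.ResidueField (Bq ⧸ J)
  haveI : IsNoetherianRing (Bq ⧸ J) := Algebra.EssFiniteType.isNoetherianRing p.ResidueField _
  let L := LocalizedModule q.primeCompl M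
  haveI : Module.Finite Bq L := Module.Finite.of_isLocalizedModule q.primeCompl (LocalizedModule.mkLinearMap q.primeCompl M)
  haveI : Module.Finite (Bq ⧸ J) (L ⧸ J • (⊤ : Submodule Bq L)) := Module.Finite.of_restrictScalars_finite Bq _ _
  have hsmul : ∀ (b : B) (x : L), ((algebraMap Bq (Bq ⧸ J)) (algebraMap B Bq b)) •
      (Submodule.Quotient.mk x : L ⧸ J • (⊤ : Submodule Bq L)) = Submodule.Quotient.mk (b • x) := fun b x => by
    rw [algebraMap_smul, ← algebraMap_smul Bq b x]
    rfl
  rcases exists_regular_or_exists_killed (M := L ⧸ J • (⊤ : Submodule Bq L))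
      ((I.map (algebraMap B Bq)).map (algebraMap Bq (Bq ⧸ J))) with ⟨g', hg', hreg⟩ | ⟨z, hz, hzI⟩
  · obtain ⟨g₁, hg₁, rfl⟩ := (Ideal.mem_map_iff_of_surjective _ Ideal.Quotient.mk_surjective).1 hg'
    obtain ⟨⟨⟨g, hg⟩, s⟩, hgs⟩ := (IsLocalization.mem_map_algebraMap_iff q.primeCompl Bq).1 hg₁
    refine ⟨g, hg, fun x hx => ?_⟩
    rw [← Submodule.Quotient.mk_eq_zero]
    refine hreg ?_
    change _ • Submodule.Quotient.mk x = _ • (0 : L ⧸ J • (⊤ : Submodule Bq L))
    rw [smul_zero]
    have hu : IsUnit (algebraMap Bq (Bq ⧸ J) (algebraMap B Bq s)) := (IsLocalization.map_units Bq s).map _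
    rw [← hu.smul_eq_zero, ← mul_smul, ← Ideal.Quotient.algebraMap_eq, ← map_mul, mul_comm, hgs, hsmul, Submodule.Quotient.mk_eq_zero]
    exact hx
  · exfalso
    obtain ⟨x, rfl⟩ := Submodule.Quotient.mk_surjective _ z
    obtain ⟨⟨m, s⟩, rfl⟩ := IsLocalizedModule.mk'_surjective q.primeCompl (LocalizedModule.mkLinearMap q.primeCompl M) x
    apply hz
    simp only [Function.uncurry_apply_pair] at hzI ⊢
    rw [Submodule.Quotient.mk_eq_zero]
    have hu : IsUnit (algebraMap B Bq s) := IsLocalization.map_units Bq s
    rw [← Submodule.smul_mem_iff_of_isUnit _ hu, algebraMap_smul, ← Submonoid.smul_def, IsLocalizedModule.mk'_cancel']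
    refine H m fun a ha => exists_of_mem_below q (a • m) ?_
    have h1 := hzI _ (Ideal.mem_map_of_mem _ (Ideal.mem_map_of_mem _ ha))
    rw [hsmul, Submodule.Quotient.mk_eq_zero] at h1
    have h2 := Submodule.smul_mem _ (algebraMap B Bq s) h1
    rw [algebraMap_smul, smul_comm, ← Submonoid.smul_def, IsLocalizedModule.mk'_cancel', ← map_smul] at h2
    exact h2

end Groth.Agent.SchDense
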